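import Mathlib
import Cfsg.Agent.H384.RC.KRule
import Cfsg.Agent.H384.RC.Asm
import Cfsg.Agent.ClassicalGeometry.SympBasic
import Cfsg.Agent.LieClassical.SympCenter
import Cfsg.Agent.S0249
import Cfsg.Agent.S0269
import Cfsg.Agent.S0270
import Cfsg.Agent.S0765

/-!
# S3510 part B, box BS: symplectic polarities (helper212 for helper384)

`killed_S` : `gam J` is `Killed` in `Aut (PSL_{2m}(F))`.

Pieces of use elsewhere: `spGL`, `sp_det`, `exists_line`, `sem_eq_one` (a semilinear automorphism fixing all points is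
trivial), `psl_simple` (any index type), `psp_facts`.
-/

set_option autoImplicit false
set_option linter.unusedSectionVars false

open Matrix Cfsg
open Cfsg.Agent.H106.RC Cfsg.Agent.H999.PslGraph Cfsg.Agent.H384.RC
open Cfsg.Agent.ClassicalGeometry.AutPSL.Auto
open Cfsg.Agent.ClassicalGeometry.SympBasic

namespace Cfsg.Agent.H212.RC

/-! ### general facts -/

section gen

variable {ι F : Type*} [Fintype ι] [DecidableEq ι] [Field F]

theorem psl_simple (hι : 3 ≤ Fintype.card ι) : IsSimpleGroup (Matrix.ProjectiveSpecialLinearGroup ι F) := by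
  have h := Cfsg.Agent.S0249.result (F := F) (Fintype.card ι) hι
  let e := rePSL (F := F) (Fintype.equivFin ι)
  have : Nontrivial (Matrix.ProjectiveSpecialLinearGroup ι F) := e.toEquiv.nontrivial
  exact IsSimpleGroup.isSimpleGroup_of_surjective e.symm.toMonoidHom e.symm.surjective

theorem det_vmv (x y : ι → F) : (1 + vecMulVec x y).det = 1 + y ⬝ᵥ x := by
  rw [vecMulVec_eq Unit, det_one_add_replicateCol_mul_replicateRow]

/-- A semilinear map fixing all points is a scalar. -/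
theorem sem_eq_one [Nontrivial ι] (A : GL ι F) (σ : F ≃+* F)
    (h : ∀ v : ι → F, v ≠ 0 → ∃ c : F, (A : Matrix ι ι F) *ᵥ (fun i => σ (v i)) = c • v) : Sem A σ = 1 := by
  have hs : ∀ (i : ι) (a : F), (fun k => σ ((Pi.single i a : ι → F) k)) = Pi.single i (σ a) := by
    intro i a
    funext k
    by_cases hk : k = i
    · subst hk; simp
    · simp [hk]
  have h1 : ∀ i : ι, ∃ c : F, (A : Matrix ι ι F) *ᵥ (Pi.single i 1) = c • (Pi.single i 1 : ι → F) := by
    intro i
    have h2 := h (Pi.single i 1) (by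
      intro h3
      have := congrFun h3 i
      simp at this)
    rwa [hs, map_one] at h2
  choose l hl using h1
  have hl0 : ∀ i, l i ≠ 0 := by
    intro i h0
    have h2 := hl i
    rw [h0, zero_smul] at h2
    have h3 : (Pi.single i 1 : ι → F) = 0 := by
      have h4 : ((A⁻¹ : GL ι F) : Matrix ι ι F) *ᵥ ((A : Matrix ι ι F) *ᵥ (Pi.single i 1)) = 0 := by
        rw [h2, mulVec_zero]
      rwa [mulVec_mulVec, ← Units.val_mul, inv_mul_cancel, Units.val_one, one_mulVec] at h4
    have := congrFun h3 i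
    simp at this
  have key : ∀ i j : ι, i ≠ j → ∀ a : F, σ a * l i = l j * a := by
    intro i j hij a
    let v : ι → F := Pi.single i a + Pi.single j 1
    have hv : v ≠ 0 := by
      intro h3
      have := congrFun h3 j
      simp [v, hij.symm] at this
    obtain ⟨c, hc⟩ := h v hv
    have h2 : (fun k => σ (v k)) = σ a • Pi.single i 1 + Pi.single j 1 := by
      funext k
      simp only [v, Pi.add_apply, map_add, Pi.smul_apply, smul_eq_mul]
      congr 1
      · by_cases hk : k = i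
        · subst hk; simp
        · simp [hk]
      · by_cases hk : k = j
        · subst hk; simp
        · simp [hk]
    rw [h2, mulVec_add, mulVec_smul, hl, hl] at hc
    have hi := congrFun hc i
    have hj := congrFun hc j
    simp [v, hij] at hi
    simp [v, hij.symm] at hj
    rw [hj]
    linear_combination hi
  obtain ⟨i₀, j₀, hij₀⟩ := exists_pair_ne ι
  have hleq : ∀ i j : ι, l i = l j := by
    intro i j
    by_cases hij : i = j
    · rw [hij]
    · have := key i j hij 1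
      rw [map_one, one_mul, mul_one] at this
      exact this
  have hσ : σ = RingEquiv.refl F := by
    apply RingEquiv.ext
    intro a
    have h2 := key i₀ j₀ hij₀ a
    rw [hleq i₀ j₀, mul_comm] at h2
    exact mul_left_cancel₀ (hl0 j₀) h2
  rw [hσ, Sem_one, Cj_eq_one_iff]
  refine ⟨l i₀, ?_⟩
  ext i j
  have h2 := congrFun (hl j) i
  rw [mulVec_single_one] at h2
  have h3 : (A : Matrix ι ι F) i j = l j * (Pi.single j 1 : ι → F) i := by
    rw [← smul_eq_mul, ← Pi.smul_apply, ← h2]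
    rfl
  rw [h3, hleq j i₀, Matrix.smul_apply, smul_eq_mul, one_apply]
  congr 1
  by_cases hk : i = j
  · subst hk; simp
  · simp [hk]

/-- `x` commuting with the transvection `1 + v ⊗ y` and with its dual nonzero fixes the point of `v`. -/
theorem exists_line [Nontrivial ι] (A : GL ι F) (σ : F ≃+* F) (g : GL ι F) (v y : ι → F)
    (hg : (g : Matrix ι ι F) = 1 + vecMulVec v y) (hy : y ≠ 0) (hvy : y ⬝ᵥ v = 0)
    (h : Sem A σ * Cj g = Cj g * Sem A σ) : ∃ c : F, (A : Matrix ι ι F) *ᵥ (fun i => σ (v i)) = c • v := by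
  obtain ⟨c, -, hc⟩ := (Sem_comm_iff A σ g).1 h
  have hnil : IsNilpotent ((g : Matrix ι ι F) - 1) := by
    refine ⟨2, ?_⟩
    rw [hg, add_sub_cancel_left, pow_two, vecMulVec_mul_vecMulVec, hvy]
    simp
  have h1 := unip_exact A σ g hnil hc
  rw [hg] at h1
  have h2 : (1 + vecMulVec v y).map σ = 1 + vecMulVec (fun i => σ (v i)) (fun i => σ (y i)) := by
    ext i j
    simp [vecMulVec_apply, Matrix.one_apply, apply_ite σ]
  rw [h2, Matrix.mul_add, Matrix.add_mul, Matrix.mul_one, Matrix.one_mul, add_right_inj] at h1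
  -- apply to a vector
  obtain ⟨i, hi⟩ : ∃ i, y i ≠ 0 := Function.ne_iff.1 hy
  have hi' : σ (y i) ≠ 0 := fun h => hi ((map_eq_zero_iff σ σ.injective).1 h)
  have h3 : ((A : Matrix ι ι F) * vecMulVec (fun i => σ (v i)) (fun i => σ (y i))) *ᵥ (Pi.single i (σ (y i))⁻¹) =
      (vecMulVec v y * (A : Matrix ι ι F)) *ᵥ (Pi.single i (σ (y i))⁻¹) := by rw [h1]
  rw [← mulVec_mulVec, ← mulVec_mulVec, vecMulVec_mulVec, vecMulVec_mulVec] at h3
  have h4 : (fun i => σ (y i)) ⬝ᵥ (Pi.single i (σ (y i))⁻¹ : ι → F) = 1 := by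
    rw [dotProduct_single, mul_inv_cancel₀ hi']
  rw [h4] at h3
  refine ⟨y ⬝ᵥ ((A : Matrix ι ι F) *ᵥ Pi.single i (σ (y i))⁻¹), ?_⟩
  have h5 : (MulOpposite.op (1 : F)) • (fun i => σ (v i)) = fun i => σ (v i) := by
    funext k
    simp
  rw [h5] at h3
  rw [h3]
  funext k
  simp [mul_comm]

/-- `A k A⁻¹` is an isometry if `A` is a similarity and `k` an isometry. -/
theorem norm_aux {A Ai k Jm : Matrix ι ι F} {c : F} (hc0 : c ≠ 0) (hA : A * Ai = 1)
    (hc : Jm = c • (Aᵀ * Jm * A)) (hk : kᵀ * Jm * k = Jm) : (A * k * Ai)ᵀ * Jm * (A * k * Ai) = Jm := by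
  have e3 : Aiᵀ * Aᵀ = 1 := by rw [← transpose_mul, hA, transpose_one]
  have hJA : Aiᵀ * Jm * Ai = c • Jm := by
    calc Aiᵀ * Jm * Ai = Aiᵀ * (c • (Aᵀ * Jm * A)) * Ai := by rw [← hc]
      _ = c • ((Aiᵀ * Aᵀ) * Jm * (A * Ai)) := by
          rw [Matrix.mul_smul, Matrix.smul_mul]
          simp only [Matrix.mul_assoc]
      _ = _ := by rw [e3, hA, Matrix.one_mul, Matrix.mul_one]
  have hJA' : Aᵀ * Jm * A = c⁻¹ • Jm := by
    conv_rhs => rw [hc]
    rw [smul_smul, inv_mul_cancel₀ hc0, one_smul]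
  rw [transpose_mul, transpose_mul]
  calc Aiᵀ * (kᵀ * Aᵀ) * Jm * (A * k * Ai) = Aiᵀ * (kᵀ * (Aᵀ * Jm * A) * k) * Ai := by
        simp only [Matrix.mul_assoc]
    _ = c⁻¹ • (Aiᵀ * (kᵀ * Jm * k) * Ai) := by
        rw [hJA', Matrix.mul_smul, Matrix.smul_mul, Matrix.mul_smul, Matrix.smul_mul]
    _ = Jm := by rw [hk, hJA, smul_smul, inv_mul_cancel₀ hc0, one_smul]

end gen

/-! ### the symplectic group -/

section sp

variable {F : Type} [Field F] [Fintype F] {m : ℕ}

/-- the inclusion -/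
noncomputable def spGL (m : ℕ) (F : Type) [Field F] : symplecticGroup (Fin m) F →* GL (Fin m ⊕ Fin m) F :=
  (symplecticGroup (Fin m) F).subtype.toHomUnits

theorem coe_spGL (k : symplecticGroup (Fin m) F) : (spGL m F k : Matrix (Fin m ⊕ Fin m) (Fin m ⊕ Fin m) F) = k.1 := rfl

theorem sp_det (k : symplecticGroup (Fin m) F) : (k.1).det = 1 := by
  have h : k ∈ transvGroup m F := by
    rw [show transvGroup m F = ⊤ from Cfsg.Agent.S0765.result m]
    exact Subgroup.mem_top k
  refine Subgroup.closure_induction (p := fun k _ => (k.1).det = 1) ?_ ?_ ?_ ?_ h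
  · rintro x ⟨w, c, hx⟩
    rw [hx, sympTransvection_def, ← smul_vecMulVec, det_vmv, dotProduct_smul, dotProduct_comm]
    have : w ⬝ᵥ (Matrix.J (Fin m) F *ᵥ w) = 0 := sympForm_self w
    rw [this, smul_zero, add_zero]
  · exact det_one
  · intro x y _ _ hx hy
    change (x.1 * y.1).det = 1
    rw [det_mul, hx, hy, one_mul]
  · intro x _ hx
    have h1 : (x⁻¹).1 * x.1 = 1 := congrArg Subtype.val (inv_mul_cancel x)
    have h2 := congrArg Matrix.det h1
    rw [det_mul, hx, mul_one, det_one] at h2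
    exact h2

theorem psp_facts (hm : 2 ≤ m) (hne : ¬ (m = 2 ∧ Fintype.card F = 2)) :
    IsSimpleGroup (PSp m F) ∧ ¬ IsMulCommutative (PSp m F) := by
  have h3 : m = 2 → 3 ≤ Fintype.card F := by
    intro h
    have h1 : 1 < Fintype.card F := Fintype.one_lt_card
    by_contra h2
    exact hne ⟨h, by omega⟩
  have hs := Cfsg.Agent.S0270.result (F := F) m hm h3
  refine ⟨hs, fun hc => ?_⟩
  have hperf : commutator (Matrix.symplecticGroup (Fin m) F) = ⊤ := by
    refine Cfsg.Agent.S0269.result m ?_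
    by_cases h2 : m = 2
    · exact Or.inr (Or.inl ⟨h2, h3 h2⟩)
    · left; omega
  have h4 : commutator (symplecticGroup (Fin m) F) ≤ Subgroup.center (symplecticGroup (Fin m) F) := by
    rw [commutator_def, Subgroup.commutator_le]
    intro a _ b _
    rw [← QuotientGroup.eq_one_iff, ← QuotientGroup.mk'_apply, map_commutatorElement, commutatorElement_eq_one_iff_mul_comm]
    exact hc.is_comm.comm _ _
  rw [hperf] at h4
  have h5 : Nontrivial (PSp m F) := hs.toNontrivial
  obtain ⟨a, b, hab⟩ := h5.exists_pair_ne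
  apply hab
  obtain ⟨a, rfl⟩ := QuotientGroup.mk'_surjective _ a
  obtain ⟨b, rfl⟩ := QuotientGroup.mk'_surjective _ b
  have h6 : ∀ c : symplecticGroup (Fin m) F, QuotientGroup.mk' (Subgroup.center (symplecticGroup (Fin m) F)) c = 1 :=
    fun c => (QuotientGroup.eq_one_iff c).2 (h4 (Subgroup.mem_top c))
  rw [h6, h6]

theorem J_map (σ : F ≃+* F) : (J (Fin m) F).map σ = J (Fin m) F := by
  rw [Matrix.J, fromBlocks_map]
  congr 1
  · ext i j; simp
  · ext i j
    simp [Matrix.one_apply, apply_ite σ]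
  · ext i j
    simp [Matrix.one_apply, apply_ite σ]
  · ext i j; simp

/-- the image of the symplectic group -/
noncomputable def fS (m : ℕ) (F : Type) [Field F] : symplecticGroup (Fin m) F →*
    MulAut (Matrix.ProjectiveSpecialLinearGroup (Fin m ⊕ Fin m) F) := Cj.comp (spGL m F)

theorem fS_apply (k : symplecticGroup (Fin m) F) : fS m F k = Cj (spGL m F k) := rfl

theorem fS_eq_one [Nontrivial (Fin m ⊕ Fin m)] (k : symplecticGroup (Fin m) F) :
    fS m F k = 1 ↔ k ∈ Subgroup.center (symplecticGroup (Fin m) F) := by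
  rw [fS_apply, Cj_eq_one_iff, LieClassical.SympCenter.mem_center_iff]
  rfl

theorem fS_inn (k : symplecticGroup (Fin m) F) : fS m F k ∈ inn _ := Cj_mem_inn _ (sp_det k)

theorem row_dot (u w : Fin m ⊕ Fin m → F) : (u ᵥ* J (Fin m) F) ⬝ᵥ w = sympForm m F u w := by
  rw [sympForm_def, dotProduct_mulVec]

theorem J_row (v : Fin m ⊕ Fin m → F) : J (Fin m) F *ᵥ v = -(v ᵥ* J (Fin m) F) := by
  have h : (J (Fin m) F)ᵀ = -J (Fin m) F := J_transpose (Fin m) F
  rw [← mulVec_transpose, h, neg_mulVec, neg_neg]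

theorem J_J_row (w : Fin m ⊕ Fin m → F) : J (Fin m) F *ᵥ (w ᵥ* J (Fin m) F) = w := by
  have h : w ᵥ* J (Fin m) F = -(J (Fin m) F *ᵥ w) := by rw [J_row, neg_neg]
  rw [h, mulVec_neg, mulVec_mulVec, J_squared, neg_mulVec, one_mulVec, neg_neg]

/-- the element `q` -/
noncomputable def qq (v w : Fin m ⊕ Fin m → F) (h : sympForm m F w v = 0) : GL (Fin m ⊕ Fin m) F :=
  Matrix.SpecialLinearGroup.toGL ⟨1 + vecMulVec v (w ᵥ* J (Fin m) F), by rw [det_vmv, row_dot, h, add_zero]⟩

theorem coe_qq (v w : Fin m ⊕ Fin m → F) (h : sympForm m F w v = 0) :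
    (qq v w h : Matrix (Fin m ⊕ Fin m) (Fin m ⊕ Fin m) F) = 1 + vecMulVec v (w ᵥ* J (Fin m) F) := rfl

theorem coe_S (B : GL (Fin m ⊕ Fin m) F) (hB : (B : Matrix (Fin m ⊕ Fin m) (Fin m ⊕ Fin m) F) = J (Fin m) F)
    (v w : Fin m ⊕ Fin m → F) (h : sympForm m F w v = 0) :
    ((qq v w h * (B⁻¹ * (ct (qq v w h))⁻¹ * B) : GL (Fin m ⊕ Fin m) F) : Matrix (Fin m ⊕ Fin m) (Fin m ⊕ Fin m) F) =
      1 + (vecMulVec v (w ᵥ* J (Fin m) F) - vecMulVec w (v ᵥ* J (Fin m) F)) := by
  have hBi : ((B⁻¹ : GL (Fin m ⊕ Fin m) F) : Matrix (Fin m ⊕ Fin m) (Fin m ⊕ Fin m) F) = -J (Fin m) F := by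
    have h1 : (B : Matrix (Fin m ⊕ Fin m) (Fin m ⊕ Fin m) F) * ((B⁻¹ : GL (Fin m ⊕ Fin m) F) : Matrix _ _ F) = 1 := by
      rw [← Units.val_mul, mul_inv_cancel, Units.val_one]
    rw [hB] at h1
    have h2 : -J (Fin m) F * (J (Fin m) F * ((B⁻¹ : GL (Fin m ⊕ Fin m) F) : Matrix _ _ F)) = -J (Fin m) F := by
      rw [h1, Matrix.mul_one]
    rwa [← Matrix.mul_assoc, Matrix.neg_mul, J_squared, neg_neg, Matrix.one_mul] at h2
  rw [Units.val_mul, coe_adj, hBi, hB, coe_qq]
  have h3 : -J (Fin m) F * (1 + vecMulVec v (w ᵥ* J (Fin m) F))ᵀ * J (Fin m) F = 1 - vecMulVec w (v ᵥ* J (Fin m) F) := by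
    rw [transpose_add, transpose_one, transpose_vecMulVec, Matrix.mul_add, Matrix.mul_one, Matrix.add_mul,
      Matrix.neg_mul, J_squared, neg_neg, Matrix.neg_mul, mul_vecMulVec, J_J_row, Matrix.neg_mul, vecMulVec_mul,
      ← sub_eq_add_neg]
  rw [h3, Matrix.add_mul, Matrix.mul_sub, Matrix.mul_sub, Matrix.one_mul, Matrix.mul_one, Matrix.one_mul,
    vecMulVec_mul_vecMulVec, row_dot, sympForm_self, zero_smul, vecMulVec_zero, sub_zero]
  abel

theorem coe_transv' (v : Fin m ⊕ Fin m → F) :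
    (spGL m F (transv v 1) : Matrix (Fin m ⊕ Fin m) (Fin m ⊕ Fin m) F) = 1 - vecMulVec v (v ᵥ* J (Fin m) F) := by
  rw [coe_spGL, coe_transv, sympTransvection_def, one_smul, J_row, vecMulVec_neg, sub_eq_add_neg]

/-- **box BS** -/
theorem killed_S {F : Type} [Field F] [Fintype F] {m : ℕ} (hm : 2 ≤ m)
    (hne : ¬ (m = 2 ∧ Fintype.card F = 2))
    (hRC : Nat.card (PSp m F) < Nat.card (Matrix.ProjectiveSpecialLinearGroup (Fin m ⊕ Fin m) F) →
      RCo (PSp m F))
    (B : GL (Fin m ⊕ Fin m) F) (hB : (B : Matrix (Fin m ⊕ Fin m) (Fin m ⊕ Fin m) F) = J (Fin m) F) :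
    Killed (gam B) := by
  have hcard : 3 ≤ Fintype.card (Fin m ⊕ Fin m) := by
    rw [Fintype.card_sum, Fintype.card_fin]; omega
  have hnt : Nontrivial (Fin m ⊕ Fin m) := nontrivial_of_card hcard
  have hS : IsSimpleGroup (Matrix.ProjectiveSpecialLinearGroup (Fin m ⊕ Fin m) F) := psl_simple hcard
  obtain ⟨hK, hKn⟩ := psp_facts (F := F) hm hne
  have ht2 : gam B * gam B = 1 := gam_sq B (Or.inr (by rw [hB, J_transpose]))
  have ht : ∀ k, gam B * fS m F k = fS m F k * gam B := by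
    intro k
    rw [fS_apply, gam_comm_Cj_iff]
    refine ⟨1, one_ne_zero, ?_⟩
    rw [one_smul, hB, coe_spGL]
    exact (SymplecticGroup.mem_iff'.1 k.2).symm
  have hfin : Finite (Matrix.SpecialLinearGroup (Fin m ⊕ Fin m) F) := inferInstance
  have hfin' : Finite (Matrix.ProjectiveSpecialLinearGroup (Fin m ⊕ Fin m) F) := Quotient.finite _
  have hSn : ¬ IsMulCommutative (Matrix.ProjectiveSpecialLinearGroup (Fin m ⊕ Fin m) F) := by
    intro hc
    apply hKn
    have h1 : ∀ k, fS m F k = 1 := by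
      intro k
      obtain ⟨s, hs⟩ := fS_inn k
      rw [← hs]
      ext x
      rw [MulAut.conj_apply, MulAut.one_apply, hc.is_comm.comm s x, mul_inv_cancel_right]
    refine ⟨⟨fun a b => ?_⟩⟩
    obtain ⟨a, rfl⟩ := QuotientGroup.mk'_surjective _ a
    obtain ⟨b, rfl⟩ := QuotientGroup.mk'_surjective _ b
    rw [(QuotientGroup.eq_one_iff a).2 ((fS_eq_one a).1 (h1 a)) |> fun h => (show QuotientGroup.mk' _ a = 1 from h),
      one_mul, mul_one]
  have hRC' : RCo (PSp m F) := hRC (card_lt_of_cent hS hSn (fS m F) fS_eq_one fS_inn (gam B) (gam_ne_one hcard B) ht)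
  rw [killed_iff]
  intro κ _ x r hF H hcov
  have hsem : ∀ i, ∃ (A : GL (Fin m ⊕ Fin m) F) (σ : F ≃+* F), x i = Sem A σ := fun i =>
    exists_sem_of_odd (by omega) (x i) ((hF.pr i).odd_of_ne_two (hF.ne2 i)) (hF.pow i)
  -- the vectors
  have hm0 : 0 < m := by omega
  let i0 : Fin m := ⟨0, by omega⟩
  let i1 : Fin m := ⟨1, by omega⟩
  have hi01 : i0 ≠ i1 := by
    intro h
    have := congrArg Fin.val h
    simp [i0, i1] at this
  let v : Fin m ⊕ Fin m → F := Pi.single (Sum.inl i0) 1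
  let w : Fin m ⊕ Fin m → F := Pi.single (Sum.inr i1) 1
  let w' : Fin m ⊕ Fin m → F := Pi.single (Sum.inl i1) 1
  have hwv : sympForm m F w v = 0 := by
    rw [show w = Pi.single (Sum.inr i1) 1 from rfl, sympForm_single_inr_left]
    simp [v, hi01.symm]
  have hwv' : sympForm m F w' v = 0 := by
    rw [show w' = Pi.single (Sum.inl i1) 1 from rfl, sympForm_single_inl_left]
    simp [v]
  have hww : sympForm m F w w' = 1 := by
    rw [show w = Pi.single (Sum.inr i1) 1 from rfl, sympForm_single_inr_left]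
    simp [w']
  have hu : sympForm m F (w + w') v = 0 := by rw [sympForm_add_left, hwv, hwv', add_zero]
  have hvw : sympForm m F v w = 0 := by rw [sympForm_swap, hwv, neg_zero]
  have hvw' : sympForm m F v w' = 0 := by rw [sympForm_swap, hwv', neg_zero]
  have hvv : sympForm m F v v = 0 := sympForm_self v
  refine fam_K hS hF ht2 hcov (fS m F) fS_eq_one hK hKn hRC' fS_inn ht ?_ ?_ (transv v 1) ?_ ?_
  · -- normalise
    intro i k
    obtain ⟨A, σ, hx⟩ := hsem i
    obtain ⟨c, hc0, hc⟩ := (gam_comm_iff A σ B).1 (by rw [← hx]; exact hF.commt i)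
    rw [hB, J_map] at hc
    rw [hx, fS_apply, Sem_conj_Cj]
    have e2' : (A : Matrix (Fin m ⊕ Fin m) (Fin m ⊕ Fin m) F) * ((A⁻¹ : GL _ F) : Matrix _ _ F) = 1 := by
      rw [← Units.val_mul, mul_inv_cancel, Units.val_one]
    have hk : (k.1.map σ)ᵀ * J (Fin m) F * (k.1.map σ) = J (Fin m) F := by
      have h1 := congrArg (fun M : Matrix (Fin m ⊕ Fin m) (Fin m ⊕ Fin m) F => M.map σ) (SymplecticGroup.mem_iff'.1 k.2)
      rw [J_map] at h1
      have h2 : (k.1ᵀ * J (Fin m) F * k.1).map σ = (k.1.map σ)ᵀ * (J (Fin m) F).map σ * k.1.map σ := by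
        have h3 : ∀ M N : Matrix (Fin m ⊕ Fin m) (Fin m ⊕ Fin m) F, (M * N).map σ = M.map σ * N.map σ := fun M N =>
          Matrix.map_mul (f := (σ : F →+* F))
        rw [h3, h3]
        rfl
      rw [h2, J_map] at h1
      exact h1
    refine ⟨⟨(A : Matrix (Fin m ⊕ Fin m) (Fin m ⊕ Fin m) F) * k.1.map σ *
      ((A⁻¹ : GL (Fin m ⊕ Fin m) F) : Matrix (Fin m ⊕ Fin m) (Fin m ⊕ Fin m) F), ?_⟩, ?_⟩
    · rw [SymplecticGroup.mem_iff']
      exact norm_aux hc0 e2' hc hk
    · rw [fS_apply]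
      congr 1
      apply Units.ext
      rw [Units.val_mul, Units.val_mul, coe_mg]
      rfl
  · -- nobody centralises
    intro i h
    obtain ⟨A, σ, hx⟩ := hsem i
    apply hF.ne1 i
    rw [hx]
    apply sem_eq_one
    intro u hu0
    refine exists_line A σ (spGL m F (transv u 1)) u (J (Fin m) F *ᵥ u) ?_ ?_ ?_ ?_
    · rw [coe_spGL, coe_transv, sympTransvection_def, one_smul]
    · intro h0
      apply hu0
      apply eq_zero_of_forall_sympForm_left
      intro z
      rw [sympForm_def, h0, dotProduct_zero]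
    · rw [dotProduct_comm]
      exact sympForm_self u
    · rw [← hx]
      exact h (transv u 1)
  · -- the root element is not trivial
    rw [fS_apply, Ne, Cj_eq_one_iff]
    rintro ⟨c, hc⟩
    have h1 := congrArg (fun M : Matrix (Fin m ⊕ Fin m) (Fin m ⊕ Fin m) F =>
      (M *ᵥ (Pi.single (Sum.inr i0) 1)) (Sum.inl i0)) hc
    rw [coe_spGL, coe_transv, sympTransvection_mulVec, smul_mulVec, one_mulVec,
      sympForm_single_inr_left] at h1
    simp [v] at h1
  · -- the root element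
    have hmem : ∀ (u : Fin m ⊕ Fin m → F) (hu : sympForm m F u v = 0),
        Cj (qq v u hu * (B⁻¹ * (ct (qq v u hu))⁻¹ * B)) ∈ Subgroup.closure
          {z | ∃ q ∈ inn (Matrix.ProjectiveSpecialLinearGroup (Fin m ⊕ Fin m) F),
            q * fS m F (transv v 1) = fS m F (transv v 1) * q ∧ z = q * gam B * q⁻¹ * (gam B)⁻¹} := by
      intro u hu
      apply Subgroup.subset_closure
      refine ⟨Cj (qq v u hu), ?_, ?_, ?_⟩
      · apply Cj_mem_inn
        rw [coe_qq, det_vmv, row_dot, hu, add_zero]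
      · rw [fS_apply, ← map_mul, ← map_mul]
        congr 1
        apply Units.ext
        rw [Units.val_mul, Units.val_mul, coe_qq, coe_transv', Matrix.add_mul, Matrix.mul_sub, Matrix.sub_mul,
          Matrix.mul_add, Matrix.mul_one, Matrix.one_mul, Matrix.one_mul, Matrix.mul_sub, Matrix.mul_one,
          Matrix.mul_add, Matrix.mul_one, vecMulVec_mul_vecMulVec, vecMulVec_mul_vecMulVec, row_dot, row_dot, hu, hvv,
          zero_smul, zero_smul, vecMulVec_zero]
        abel
      · rw [comm_gam]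
    have h1 : fS m F (transv v 1) = Cj (qq v w hwv * (B⁻¹ * (ct (qq v w hwv))⁻¹ * B)) *
        Cj (qq v w' hwv' * (B⁻¹ * (ct (qq v w' hwv'))⁻¹ * B)) *
        (Cj (qq v (w + w') hu * (B⁻¹ * (ct (qq v (w + w') hu))⁻¹ * B)))⁻¹ := by
      have e1 := coe_S B hB v w hwv
      have e2 := coe_S B hB v w' hwv'
      have e3 := coe_S B hB v (w + w') hu
      generalize qq v w hwv * (B⁻¹ * (ct (qq v w hwv))⁻¹ * B) = s1 at e1 ⊢
      generalize qq v w' hwv' * (B⁻¹ * (ct (qq v w' hwv'))⁻¹ * B) = s2 at e2 ⊢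
      generalize qq v (w + w') hu * (B⁻¹ * (ct (qq v (w + w') hu))⁻¹ * B) = s3 at e3 ⊢
      rw [eq_mul_inv_iff_mul_eq, fS_apply, ← map_mul, ← map_mul]
      congr 1
      apply Units.ext
      rw [Units.val_mul, Units.val_mul, e1, e2, e3, coe_transv', add_vecMul, vecMulVec_add, add_vecMulVec]
      simp only [Matrix.mul_add, Matrix.add_mul, Matrix.mul_sub, Matrix.sub_mul, Matrix.mul_one, Matrix.one_mul,
        vecMulVec_mul_vecMulVec, row_dot, hvv, hvw, hvw', hwv, hww, zero_smul, one_smul, vecMulVec_zero]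
      abel
    have h2 := mul_mem (mul_mem (hmem w hwv) (hmem w' hwv')) (inv_mem (hmem (w + w') hu))
    rwa [← h1] at h2

end sp

end Cfsg.Agent.H212.RC
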